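import Mathlib

/-!
# Degree searches for principal blocks at eleven

The finite check behind the non-existence of simple groups of order dividing 95040 and divisible by 11, apart
from the orders 660, 7920 and 95040.
-/

set_option autoImplicit false

namespace CfsgLib.KGroups.ElevenOrders

/-- The orders to be excluded. -/
def orders : List ℕ := [
  22, 33, 44, 55, 66, 88, 99, 110, 132, 165, 176, 198,
  220, 264, 297, 330, 352, 396, 440, 495, 528, 594, 704, 792,
  880, 990, 1056, 1188, 1320, 1485, 1584, 1760, 1980, 2112, 2376, 2640,
  2970, 3168, 3520, 3960, 4752, 5280, 5940, 6336, 9504, 10560, 11880, 15840,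
  19008, 23760, 31680, 47520]

/-- The prime used for an element commuting with a generator. -/
def qOf (k : ℕ) : ℕ := if k % 2 = 0 then 2 else if k % 3 = 0 then 3 else if k % 5 = 0 then 5 else 1

/-- The power of `q` dividing an order below `2 ^ 16`. -/
def fullPart (n q : ℕ) : ℕ :=
  (List.range 8).foldl (fun a _ => if n % (a * q) = 0 then a * q else a) 1

/-- The degrees allowed for a non-trivial member. -/
def memberOk (n q d : ℕ) : Bool :=
  if q = 1 then decide (d ≠ 10) else (decide (q = 5) || decide (22 ≤ d)) && decide (d % fullPart n q ≠ 0)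

/-- The signed degrees allowed for a non-trivial member. -/
def allow (n q : ℕ) : List ℤ :=
  ((List.range 220).filter fun d => decide (2 ≤ d) && decide (n % d = 0) && decide (d * d ≤ n) &&
    (decide (d % 11 = 1) || decide (d % 11 = 10)) && memberOk n q d).map
    fun d : ℕ => if d % 11 = 1 then (d : ℤ) else -(d : ℤ)

/-- All multisets of a given size over a list. -/
def combs : List ℤ → ℕ → List (List ℤ)
  | [], k => if k = 0 then [[]] else []
  | a :: A, k => (List.range (k + 1)).flatMap fun j => (combs A (k - j)).map (List.replicate j a ++ ·)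

theorem combs_complete (A : List ℤ) :
    ∀ (k : ℕ) (m : Multiset ℤ), Multiset.card m = k → (∀ a ∈ m, a ∈ A) →
      ∃ l ∈ combs A k, (l : Multiset ℤ) = m := by
  induction A with
  | nil =>
    intro k m hm h
    have h0 : m = 0 := Multiset.eq_zero_of_forall_notMem fun a ha => List.not_mem_nil (h a ha)
    subst h0
    rw [Multiset.card_zero] at hm
    subst hm
    exact ⟨[], by simp [combs], rfl⟩
  | cons a A ih =>
    intro k m hm h
    have hsplit := Multiset.filter_add_not (fun b => a = b) m
    rw [Multiset.filter_eq] at hsplit
    set r := m.filter (fun b => ¬ a = b) with hr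
    have hcard : Multiset.card r + m.count a = k := by
      rw [← hm]
      conv_rhs => rw [← hsplit, Multiset.card_add, Multiset.card_replicate]
      omega
    obtain ⟨l, hl, hl'⟩ := ih (Multiset.card r) r rfl fun b hb => by
      rw [hr, Multiset.mem_filter] at hb
      exact (List.mem_cons.mp (h b hb.1)).resolve_left fun e => hb.2 e.symm
    refine ⟨List.replicate (m.count a) a ++ l, ?_, ?_⟩
    · simp only [combs, List.mem_flatMap, List.mem_range, List.mem_map]
      exact ⟨m.count a, by omega, l, by rwa [show k - m.count a = Multiset.card r by omega], rfl⟩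
    · rw [← Multiset.coe_add, hl', Multiset.coe_replicate]
      exact hsplit

/-- The exceptional degree closing a relation is possible. -/
def excOk (n e q : ℕ) (l : List ℤ) : Bool :=
  let s := 1 + l.sum
  let b := s.natAbs
  decide (b ≠ 0) && decide (n % b = 0) && decide ((s - (e : ℤ)) % 11 = 0) &&
    (decide (q = 1) || decide (b % fullPart n q ≠ 0)) &&
    ((decide (q ≠ 2) && decide (q ≠ 3)) || decide (22 ≤ b)) &&
    decide (1 + (l.map fun a => a.natAbs ^ 2).sum + (10 / e) * b ^ 2 ≤ n)

/-- The values at an involution of the normaliser cannot close a relation. -/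
def valueBad (q : ℕ) (l : List ℤ) : Bool :=
  (decide (q = 1) || decide (q = 3)) && (l.all fun a => decide (a ∈ ([12, -32, 45, -120, 144] : List ℤ))) &&
    decide (14 * l.count 144 < 1 + 5 * l.count 45)

/-- No survivor in one case. -/
def caseOk (n e k : ℕ) : Bool :=
  let q := qOf k
  (q != 1 || (decide (k = 1) && decide (e ≠ 5))) &&
    if e = 10 then
      ((combs (allow n q) 10).all fun l =>
        decide (1 + l.sum ≠ 0) || decide (n < 1 + (l.map fun a => a.natAbs ^ 2).sum) || valueBad q l)
    else (combs (allow n q) (e - 1)).all fun l => !excOk n e q l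

/-- The cases given by Sylow's theorem. -/
def sylowCase (n e k : ℕ) : Bool :=
  decide ((n / 11) % (e * k) = 0) && decide ((n / 11 / (e * k)) % 11 = 1) && decide (n / 11 / (e * k) ≠ 1)

theorem case_key : ∀ n ∈ orders, ∀ e ∈ ([2, 5, 10] : List ℕ), ∀ k ∈ List.range (n / 11 / e / 11 + 1),
    sylowCase n e k = true → caseOk n e k = true := by
  decide +kernel

end CfsgLib.KGroups.ElevenOrders
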