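import Cfsg.Agent.Lib.KGroups.M22Frame

/-!
# Values beside a principal block of prime order

Degree bounds from elements commuting with a generator, and values at an involution inverting a generator.
-/

set_option autoImplicit false

namespace CfsgLib.KGroups.ElevenOrders

open Cfsg CfsgLib.Blocks CfsgLib.KGroups.M11Tools CfsgLib.KGroups.M12Tools
  CfsgLib.KGroups.M12Reps CfsgLib.KGroups.M12Local CfsgLib.KGroups.M22Tools CfsgLib.KGroups.M22Frame Subgroup
open CfsgLib.SmallGroups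
open scoped Classical Pointwise

variable {G : Type*} [Group G] [Fintype G]

/-- The twisted sum over the powers of an element. -/
noncomputable def twistSum (f : G → ℂ) (w : G) (n : ℕ) (μ : ℂ) : ℂ :=
  ∑ j ∈ Finset.range n, f (w ^ j) * μ ^ j

/-- Twisted sums at an element of order three divisible by `3 * p` force a degree of at least `2 * p`. -/
theorem small_of_twists [IsSimpleGroup G] (hG : ¬ IsMulCommutative G) {p : ℕ} (hp : p.Prime) (hp3 : p ≠ 3)
    (χ : IrrCharacter G) (hne : χ ≠ trivChar G) {w : G} (hw : orderOf w = 3)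
    (h : ∀ μ : ℂ, μ ^ 3 = 1 → μ ≠ 1 → ∃ M : ℤ, twistSum (χ : G → ℂ) w 3 μ = (3 * p : ℂ) * M) :
    2 * p ≤ charDegree (χ : G → ℂ) := by
  set d := charDegree (χ : G → ℂ) with hd
  set ω : ℂ := Complex.exp (2 * Real.pi * Complex.I / (3 : ℕ))
  have hω : IsPrimitiveRoot ω 3 := Complex.isPrimitiveRoot_exp 3 (by norm_num)
  have h1 : 1 + ω + ω ^ 2 = 0 := by
    have := hω.geom_sum_eq_zero (by norm_num)
    simpa [Finset.sum_range_succ] using this
  have h4 : (ω ^ 2) ^ 2 = ω := by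
    rw [← pow_mul, show 2 * 2 = 3 + 1 from rfl, pow_add, hω.pow_eq_one, one_mul, pow_one]
  obtain ⟨n, ρ, hρ, he⟩ := χ.2
  have hn : Module.finrank ℂ (Fin n → ℂ) = d := by
    apply Nat.cast_injective (R := ℂ)
    rw [hd, ← irr_one_eq, ← he, Representation.char_one]
  have hw3 : w ^ 3 = 1 := hw ▸ pow_orderOf_eq_one w
  obtain ⟨a, q, r, hsum, ht1, ht2, hdet⟩ := three_eigen (ρ w) (by rw [← map_pow, hw3, map_one]) hω
  rw [det_eq_one hG ρ w] at hdet
  rw [hn] at hsum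
  have hg1 : (χ : G → ℂ) w = (a : ℂ) + q * ω + r * ω ^ 2 := by rw [← he]; exact ht1
  have hg2 : (χ : G → ℂ) (w ^ 2) = (a : ℂ) + q * ω ^ 2 + r * ω := by
    rw [← he]
    show LinearMap.trace ℂ _ (ρ (w ^ 2)) = _
    rw [map_pow]; exact ht2
  have hs3 : ((d : ℕ) : ℂ) = (a : ℂ) + q + r := by exact_mod_cast hsum
  have hω1 : ω ≠ 1 := hω.ne_one (by norm_num)
  have hω2 : ω ^ 2 ≠ 1 := hω.pow_ne_one_of_pos_of_lt (by norm_num) (by norm_num)
  obtain ⟨m1, e1⟩ := h (ω ^ 2) (by rw [← pow_mul, mul_comm, pow_mul, hω.pow_eq_one, one_pow]) hω2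
  obtain ⟨m2, e2⟩ := h ω hω.pow_eq_one hω1
  simp only [twistSum, Finset.sum_range_succ, Finset.sum_range_zero, pow_zero, pow_one, irr_one_eq, hg1, hg2,
    ← hd, hs3, h4] at e1 e2
  have h3 := hω.pow_eq_one
  have hq : (q : ℤ) = p * m1 := by
    have : (3 * q : ℂ) = 3 * ((p * m1 : ℤ) : ℂ) := by
      push_cast
      linear_combination e1 - ((a : ℂ) + r) * h1 - (2 * (q : ℂ) + r * ω) * h3
    exact_mod_cast mul_left_cancel₀ (by norm_num : (3 : ℂ) ≠ 0) this
  have hr : (r : ℤ) = p * m2 := by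
    have : (3 * r : ℂ) = 3 * ((p * m2 : ℤ) : ℂ) := by
      push_cast
      linear_combination e2 - ((a : ℂ) + q) * h1 - ((q : ℂ) * ω + 2 * (r : ℂ)) * h3
    exact_mod_cast mul_left_cancel₀ (by norm_num : (3 : ℂ) ≠ 0) this
  have hdet' : 3 ∣ q + 2 * r := (hω.pow_eq_one_iff_dvd _).mp hdet.symm
  have hw1 : w ≠ 1 := fun e => by rw [e, orderOf_one] at hw; omega
  by_contra hlt
  have hlt' : d < 2 * p := Nat.not_le.mp hlt
  have hp0 : (0 : ℤ) < p := by exact_mod_cast hp.pos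
  have hp' : ¬ 3 ∣ p := fun e => hp3 ((Nat.prime_dvd_prime_iff_eq Nat.prime_three hp).mp e).symm
  have hz : q = 0 ∧ r = 0 := by
    have a1 : 0 ≤ m1 := by nlinarith
    have a2 : 0 ≤ m2 := by nlinarith
    have b1 : m1 + m2 ≤ 1 := by nlinarith
    rcases (show (m1 = 0 ∧ m2 = 0) ∨ (m1 = 1 ∧ m2 = 0) ∨ (m1 = 0 ∧ m2 = 1) by omega) with
      ⟨rfl, rfl⟩ | ⟨rfl, rfl⟩ | ⟨rfl, rfl⟩
    · omega
    · exfalso; simp only [mul_one, mul_zero] at hq hr; omega
    · exfalso; simp only [mul_one, mul_zero] at hq hr; omega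
  have hfix := M11Tools.norm_lt hG χ (by
    intro hd1
    exact hne (BlockDegrees.eq_trivChar hG χ hd1)) hw1
  rw [hg1, hz.1, hz.2, ← hd] at hfix
  have : (a : ℝ) = d := by exact_mod_cast (show a = d by omega)
  norm_num at hfix
  linarith

section Exceptional

variable {p e : ℕ} [hp : Fact p.Prime] {P : Sylow p G} (F : Frame p e P)

theorem member_ne_zero {χ : IrrCharacter G} (hχ : χ ∈ F.X) {u : G} (hc : Commute F.x u) (hu : ¬ p ∣ orderOf u) :
    (χ : G → ℂ) (F.x * u) ≠ 0 := by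
  have h := F.hval χ hχ 1 hp.out.not_dvd_one u hc hu
  rw [pow_one] at h
  rw [h]
  rcases F.hsgn χ hχ with e1 | e1 <;> rw [e1] <;> norm_num

theorem dvd_orderOf_mul {u : G} (hc : Commute F.x u) (hu : ¬ p ∣ orderOf u) : orderOf u ∣ orderOf (F.x * u) := by
  rw [hc.orderOf_mul_eq_mul_orderOf_of_coprime (by rw [F.hx]; exact hp.out.coprime_iff_not_dvd.mpr hu), F.hx]
  exact dvd_mul_left _ _

/-- A member is not of full power at a prime dividing the order of a commuting element. -/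
theorem member_not_full {χ : IrrCharacter G} (hχ : χ ∈ F.X) {q n : ℕ} (hq : q.Prime) (h1 : q ^ n ∣ Nat.card G)
    (h2 : ¬ q ^ (n + 1) ∣ Nat.card G) {u : G} (hu : orderOf u = q) (hpq : p ≠ q) (hc : Commute F.x u) :
    ¬ q ^ n ∣ charDegree (χ : G → ℂ) := fun hd =>
  member_ne_zero F hχ hc (hu ▸ fun h => hpq ((Nat.prime_dvd_prime_iff_eq hp.out hq).mp h))
    (vanish χ hq h1 h2 hd ((hu ▸ dvd_refl _ : q ∣ orderOf u).trans
      (dvd_orderOf_mul F hc (hu ▸ fun h => hpq ((Nat.prime_dvd_prime_iff_eq hp.out hq).mp h)))))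

/-- An exceptional degree is not of full power at a prime dividing the order of a commuting element. -/
theorem theta_not_full {θ : IrrCharacter G} (hθ : θ ∈ F.Y) {q n : ℕ} (hq : q.Prime) (h1 : q ^ n ∣ Nat.card G)
    (h2 : ¬ q ^ (n + 1) ∣ Nat.card G) {u : G} (hu : orderOf u = q) (hpq : p ≠ q) (hc : Commute F.x u) :
    ¬ q ^ n ∣ charDegree (θ : G → ℂ) := fun hd => by
  have hu' : ¬ p ∣ orderOf u := hu ▸ fun h => hpq ((Nat.prime_dvd_prime_iff_eq hp.out hq).mp h)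
  have h := sum_theta F ⟨θ, hθ⟩ hp.out.not_dvd_one hc hu'
  rw [pow_one, Finset.sum_eq_zero fun η hη => vanish η hq h1 h2 (F.deg_agree hη hθ ▸ hd)
    ((hu ▸ dvd_refl _ : q ∣ orderOf u).trans (dvd_orderOf_mul F hc hu'))] at h
  rcases F.hεy with e1 | e1 <;> rw [e1] at h <;> norm_num at h

variable [IsSimpleGroup G] (hG : ¬ IsMulCommutative G)
include hG

/-- The exceptional degree beside a commuting element of order three. -/
theorem theta_three (hp3 : p ≠ 3) (ht : trivChar G ∈ F.X) {θ : IrrCharacter G} (hθ : θ ∈ F.Y) {w : G}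
    (hw : orderOf w = 3) (hc : Commute F.x w) : 2 * p ≤ charDegree (θ : G → ℂ) := by
  have hne : θ ≠ trivChar G := fun h => Finset.disjoint_left.mp F.hdisj ht (h ▸ hθ)
  refine small_of_twists hG hp.out hp3 θ hne hw fun μ hμ hμ1 => ?_
  have hp' : ¬ p ∣ 3 := fun h => hp3 ((Nat.prime_dvd_prime_iff_eq hp.out Nat.prime_three).mp h)
  have hgeom : ∑ j ∈ Finset.range 3, μ ^ j = 0 := by rw [sum_root_pow hμ, if_neg hμ1]
  have hmem : ∀ χ ∈ F.X', ∃ m : ℕ, twistSum (χ : G → ℂ) w 3 μ = (3 * p : ℂ) * m := fun χ hχ => by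
    obtain ⟨m, hm⟩ := member_twist F.hx (F.hval χ (F.mem_X hχ).1) hw hc hp' hμ
    rw [hgeom, mul_zero, add_zero] at hm
    refine ⟨m, ?_⟩
    rw [twistSum, hm]
    push_cast
    ring
  choose! m hm using hmem
  refine ⟨F.εy * ∑ χ ∈ F.X', F.sgn χ * m χ, ?_⟩
  have hj : ∀ j ∈ Finset.range 3, (θ : G → ℂ) (w ^ j) * μ ^ j =
      (F.εy : ℂ) * (μ ^ j + ∑ χ ∈ F.X', (F.sgn χ : ℂ) * ((χ : G → ℂ) (w ^ j) * μ ^ j)) := fun j _ => by
    have h1 := F.rel_split ht hθ (w ^ j) (fun h => hp' (h.trans (hw ▸ orderOf_pow_dvd j)))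
    have h2 : (F.εy : ℂ) * (F.εy : ℂ) = 1 := by rcases F.hεy with e1 | e1 <;> rw [e1] <;> norm_num
    calc (θ : G → ℂ) (w ^ j) * μ ^ j = (F.εy : ℂ) * ((F.εy : ℂ) * (θ : G → ℂ) (w ^ j)) * μ ^ j := by
          rw [← mul_assoc, h2, one_mul]
      _ = _ := by
          rw [h1, mul_assoc, add_mul, one_mul, Finset.sum_mul]
          simp only [mul_assoc]
  rw [twistSum, Finset.sum_congr rfl hj, ← Finset.mul_sum, Finset.sum_add_distrib, hgeom, zero_add,
    Finset.sum_comm, Finset.sum_congr rfl (g := fun χ => (F.sgn χ : ℂ) * ((3 * p : ℂ) * m χ)) fun χ hχ => by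
      rw [← Finset.mul_sum]; exact congrArg _ (hm χ hχ)]
  push_cast
  rw [Finset.mul_sum, Finset.mul_sum, Finset.mul_sum]
  exact Finset.sum_congr rfl fun χ _ => by ring

/-- The exceptional degree beside a commuting involution. -/
theorem theta_two (hp2 : p ≠ 2) (ht : trivChar G ∈ F.X) {θ : IrrCharacter G} (hθ : θ ∈ F.Y) {z : G}
    (hz : orderOf z = 2) (hc : Commute F.x z) : 2 * p ≤ charDegree (θ : G → ℂ) := by
  have hne : θ ≠ trivChar G := fun h => Finset.disjoint_left.mp F.hdisj ht (h ▸ hθ)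
  obtain ⟨v, hv⟩ := exists_int_two θ hz
  have hmem : ∀ χ ∈ F.X', ∃ a : ℤ, (χ : G → ℂ) z = a ∧ (4 * p : ℤ) ∣ (charDegree (χ : G → ℂ) : ℤ) - a := by
    intro χ hχ
    obtain ⟨a, ha, h4, h2p, -⟩ := member_two F.hx (F.hval χ (F.mem_X hχ).1) hG hp2 (F.mem_X hχ).2 hz hc
    refine ⟨a, ha, ?_⟩
    have hp' : ¬ 2 ∣ p := fun h => hp2 ((Nat.prime_dvd_prime_iff_eq Nat.prime_two hp.out).mp h).symm
    have h4' : (4 : ℤ) ∣ (charDegree (χ : G → ℂ) : ℤ) - a := by omega
    have hpd : (p : ℤ) ∣ (charDegree (χ : G → ℂ) : ℤ) - a := (dvd_mul_left _ _).trans h2p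
    refine IsCoprime.mul_dvd ?_ h4' hpd
    rw [Int.isCoprime_iff_nat_coprime]
    exact Nat.Coprime.pow_left 2 ((Nat.Prime.coprime_iff_not_dvd Nat.prime_two).mpr hp')
  choose! a ha hdvd using hmem
  have h1 := F.rel_split ht hθ z (fun h => hp2 ((Nat.prime_dvd_prime_iff_eq hp.out Nat.prime_two).mp (hz ▸ h)))
  rw [hv, Finset.sum_congr rfl (g := fun χ => (F.sgn χ : ℂ) * (a χ : ℂ)) fun χ hχ => by rw [ha χ hχ]] at h1
  have h1' : F.εy * v = 1 + ∑ χ ∈ F.X', F.sgn χ * a χ := by exact_mod_cast h1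
  have hdiff : (4 * p : ℤ) ∣ F.εy * ((charDegree (θ : G → ℂ) : ℤ) - v) := by
    rw [mul_sub, F.rel_one ht hθ, h1', add_sub_add_left_eq_sub, ← Finset.sum_sub_distrib]
    refine Finset.dvd_sum fun χ hχ => ?_
    rw [← mul_sub]
    exact (hdvd χ hχ).mul_left _
  have hdiff' : (4 * p : ℤ) ∣ (charDegree (θ : G → ℂ) : ℤ) - v := by
    rcases F.hεy with e1 | e1 <;> rw [e1] at hdiff
    · simpa using hdiff
    · rw [neg_one_mul] at hdiff; exact Int.dvd_neg.mp hdiff
  have hlt := ValueTools.lt_degree hG hne (fun h => by rw [h, orderOf_one] at hz; omega) hv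
  have := Int.le_of_dvd (by omega) hdiff'
  omega

end Exceptional

section Inverting

variable {p : ℕ} [hp : Fact p.Prime] {x t : G} (hx : orderOf x = p) (hp2 : p ≠ 2) (ht : orderOf t = 2)
  (hinv : t * x * t⁻¹ = x⁻¹)
include hx hp2 ht hinv

omit [Fintype G] ht in
theorem conj_mul_pow (i : ℕ) : IsConj t (x ^ i * t) := by
  obtain ⟨k, hk⟩ : 2 ∣ p + 1 := by
    rcases hp.out.eq_two_or_odd with h | h
    · exact absurd h hp2
    · omega
  refine isConj_iff.mpr ⟨x ^ (i * k), ?_⟩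
  have hinv' : ∀ j : ℕ, t * (x ^ j)⁻¹ = x ^ j * t := fun j => by
    have h : t * x ^ j * t⁻¹ = (x ^ j)⁻¹ := by rw [← conj_pow, hinv, inv_pow]
    calc t * (x ^ j)⁻¹ = (t * x ^ j * t⁻¹)⁻¹ * t := by group
      _ = x ^ j * t := by rw [h, inv_inv]
  rw [mul_assoc, hinv', ← mul_assoc, ← pow_add]
  congr 1
  rw [← mul_add, show k + k = p + 1 by omega, mul_add, mul_one, pow_add, mul_comm i p, pow_mul,
    ← hx, pow_orderOf_eq_one, one_pow, one_mul]

/-- The value at an inverting involution is bounded by the fixed points of the inverted group. -/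
theorem fixed_bound (χ : IrrCharacter G) {s : ℤ}
    (hval : ∀ i, ¬ p ∣ i → (χ : G → ℂ) (x ^ i) = (s : ℂ)) {v : ℤ} (hv : (χ : G → ℂ) t = v) :
    (p * v.natAbs : ℤ) ≤ (charDegree (χ : G → ℂ) : ℤ) + ((p : ℤ) - 1) * s := by
  have hpt : ¬ t ∈ zpowers x := fun h => by
    have := Subgroup.orderOf_dvd_natCard (zpowers x) h
    rw [Nat.card_zpowers, hx, ht] at this
    exact hp2 ((Nat.prime_dvd_prime_iff_eq Nat.prime_two hp.out).mp this).symm
  have htinv : t⁻¹ = t := inv_eq_of_mul_eq_one_right (by rw [← pow_two, ← ht, pow_orderOf_eq_one])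
  have hnorm : zpowers t ≤ normalizer ((zpowers x : Subgroup G) : Set G) := by
    rw [zpowers_le]
    refine mem_normalizer_iff.mpr fun y => ⟨?_, ?_⟩
    · rintro ⟨j, rfl⟩
      refine ⟨-j, ?_⟩
      show x ^ (-j) = t * x ^ j * t⁻¹
      rw [← conj_zpow, hinv, inv_zpow, zpow_neg]
    · rintro ⟨j, hj⟩
      refine ⟨-j, ?_⟩
      have hj' : x ^ j = t * y * t⁻¹ := hj
      show x ^ (-j) = y
      calc x ^ (-j) = t * x ^ j * t⁻¹ := by rw [← conj_zpow, hinv, inv_zpow, zpow_neg]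
        _ = t * (t * y * t⁻¹) * t⁻¹ := by rw [hj']
        _ = (t * t) * y * (t * t) := by rw [htinv]; group
        _ = y := by rw [← pow_two, ← ht, pow_orderOf_eq_one]; group
  set D := zpowers x ⊔ zpowers t with hD
  have hcoe := Subgroup.coe_mul_of_right_le_normalizer_left (zpowers x) (zpowers t) hnorm
  let f : Fin p × Fin 2 → D := fun a =>
    ⟨x ^ (a.1 : ℕ) * t ^ (a.2 : ℕ), mul_mem (Subgroup.mem_sup_left (pow_mem (mem_zpowers x) _))
      (Subgroup.mem_sup_right (pow_mem (mem_zpowers t) _))⟩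
  have hf : Function.Bijective f := by
    refine ⟨?_, ?_⟩
    · rintro ⟨i, a⟩ ⟨j, b⟩ hab
      have h1 : x ^ (i : ℕ) * t ^ (a : ℕ) = x ^ (j : ℕ) * t ^ (b : ℕ) := congrArg Subtype.val hab
      have hmem : ∀ i : ℕ, x ^ i ∈ zpowers x := fun i => pow_mem (mem_zpowers x) i
      have hab' : a = b := by
        fin_cases a <;> fin_cases b <;> first | rfl | (exfalso; apply hpt)
        · simp only [pow_zero, mul_one, pow_one] at h1
          have : t = (x ^ (j : ℕ))⁻¹ * x ^ (i : ℕ) := by rw [h1]; group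
          rw [this]; exact mul_mem (inv_mem (hmem _)) (hmem _)
        · simp only [pow_zero, mul_one, pow_one] at h1
          have : t = (x ^ (i : ℕ))⁻¹ * x ^ (j : ℕ) := by rw [← h1]; group
          rw [this]; exact mul_mem (inv_mem (hmem _)) (hmem _)
      subst hab'
      have h2 := pow_injOn_Iio_orderOf (Set.mem_Iio.mpr (hx.symm ▸ i.2)) (Set.mem_Iio.mpr (hx.symm ▸ j.2))
        (mul_right_cancel h1)
      rw [Fin.ext h2]
    · rintro ⟨g, hg⟩
      have hg' : g ∈ (zpowers x : Set G) * (zpowers t : Set G) := by rw [← hcoe]; exact hg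
      obtain ⟨a, ha, b, hb, rfl⟩ := hg'
      obtain ⟨i, hi, rfl⟩ := (isOfFinOrder_of_finite x).mem_zpowers_iff_mem_range_orderOf.mp ha |>
        Finset.mem_image.mp |> fun ⟨i, h1, h2⟩ => (⟨i, Finset.mem_range.mp h1, h2⟩ : ∃ i, i < orderOf x ∧ x ^ i = a)
      obtain ⟨k, hk, rfl⟩ := (isOfFinOrder_of_finite t).mem_zpowers_iff_mem_range_orderOf.mp hb |>
        Finset.mem_image.mp |> fun ⟨i, h1, h2⟩ => (⟨i, Finset.mem_range.mp h1, h2⟩ : ∃ i, i < orderOf t ∧ t ^ i = b)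
      exact ⟨(⟨i, hx ▸ hi⟩, ⟨k, ht ▸ hk⟩), rfl⟩
  have hcard : Nat.card D = p * 2 := by
    rw [← Nat.card_eq_of_bijective f hf, Nat.card_prod, Nat.card_fin, Nat.card_fin]
  have hsumP : ∑ g : zpowers x, (χ : G → ℂ) g =
      ∑ i ∈ Finset.range p, (χ : G → ℂ) (x ^ i) := by
    rw [← hx, ← Fin.sum_univ_eq_sum_range (fun i => (χ : G → ℂ) (x ^ i))]
    exact (Fintype.sum_equiv (finEquivZPowers (isOfFinOrder_of_finite x)) _ _ fun i => rfl).symm
  have hP : ∑ i ∈ Finset.range p, (χ : G → ℂ) (x ^ i) =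
      (((charDegree (χ : G → ℂ) : ℤ) + ((p : ℤ) - 1) * s : ℤ) : ℂ) := by
    rw [sum_range_split hp.out.pos, pow_zero, irr_one_eq,
      Finset.sum_congr rfl (g := fun _ => (s : ℂ)) fun i hi => hval i fun h => by
        have := Finset.mem_Ico.mp hi
        exact absurd (Nat.le_of_dvd (by omega) h) (by omega),
      Finset.sum_const, Nat.card_Ico, nsmul_eq_mul, Nat.cast_sub hp.out.one_lt.le]
    push_cast
    ring
  have hsumD : ∑ g : D, (χ : G → ℂ) g = ∑ i ∈ Finset.range p, (χ : G → ℂ) (x ^ i) + p * (v : ℂ) := by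
    rw [← hf.sum_comp, Fintype.sum_prod_type, ← Fin.sum_univ_eq_sum_range (fun i => (χ : G → ℂ) (x ^ i))]
    have hrow : ∀ i : Fin p, ∑ a : Fin 2, (χ : G → ℂ) (f (i, a) : G) = (χ : G → ℂ) (x ^ (i : ℕ)) + v := fun i => by
      rw [Fin.sum_univ_two]
      obtain ⟨c, hc⟩ := isConj_iff.mp (conj_mul_pow hx hp2 hinv i)
      show (χ : G → ℂ) (x ^ (i : ℕ) * t ^ 0) + (χ : G → ℂ) (x ^ (i : ℕ) * t ^ 1) = _
      rw [pow_zero, mul_one, pow_one, ← hc, irr_conj_apply, hv]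
    rw [Finset.sum_congr rfl fun i _ => hrow i, Finset.sum_add_distrib, Finset.sum_const, Finset.card_univ,
      Fintype.card_fin, nsmul_eq_mul]
  obtain ⟨n, ρ, hρ, he⟩ := χ.2
  have hinvar : ∀ A : Subgroup G, ∃ m : ℕ, ∑ g : A, (χ : G → ℂ) g = (Nat.card A : ℂ) * m := fun A =>
    ⟨_, he ▸ sum_eq_invariants ρ A⟩
  obtain ⟨L, hL⟩ := hinvar (zpowers x)
  obtain ⟨m, hm⟩ := hinvar D
  have hle := mult_mono χ (le_sup_left : zpowers x ≤ D) hL hm
  rw [hsumP, hP, Nat.card_zpowers, hx] at hL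
  rw [hsumD, hP, hcard] at hm
  have hL' : (charDegree (χ : G → ℂ) : ℤ) + ((p : ℤ) - 1) * s = p * L := by exact_mod_cast hL
  have hm' : (charDegree (χ : G → ℂ) : ℤ) + ((p : ℤ) - 1) * s + p * v = (p * 2) * m := by exact_mod_cast hm
  rw [hL'] at hm' ⊢
  have hpz : (p : ℤ) ≠ 0 := by exact_mod_cast hp.out.ne_zero
  have : (L : ℤ) + v = 2 * m := mul_left_cancel₀ hpz (by rw [mul_add, hm']; ring)
  exact mul_le_mul_of_nonneg_left (by omega) (by positivity)

end Inverting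

/-- A full power of five in the degree propagates to the values at commuting involutions. -/
theorem five_dvd (χ : IrrCharacter G) (h5 : 5 ∣ Nat.card G) (h25 : ¬ 25 ∣ Nat.card G)
    (hd : 5 ∣ charDegree (χ : G → ℂ)) {y t : G} (hy : orderOf y = 5) (ht : orderOf t = 2) (hc : Commute y t)
    {v : ℤ} (hv : (χ : G → ℂ) t = v) : (5 : ℤ) ∣ v := by
  have hzero : ∀ i j : ℕ, ¬ 5 ∣ i → (χ : G → ℂ) (y ^ i * t ^ j) = (0 : ℂ) := fun i j hi => by
    refine vanish χ Nat.prime_five (n := 1) (by simpa using h5) (fun h => h25 (by simpa using h)) (by simpa using hd) ?_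
    have h1 : orderOf (y ^ i) = 5 := by
      rw [orderOf_pow, hy, ((Nat.prime_five.coprime_iff_not_dvd).mpr hi).gcd_eq_one, Nat.div_one]
    rw [(hc.pow_pow i j).orderOf_mul_eq_mul_orderOf_of_coprime (by
      rw [h1]; exact (Nat.prime_five.coprime_iff_not_dvd).mpr
        fun h => absurd (Nat.le_of_dvd two_pos (h.trans (ht ▸ orderOf_pow_dvd j))) (by norm_num)), h1]
    exact dvd_mul_right _ _
  obtain ⟨m1, h1⟩ := twist_const χ Nat.prime_five hy ht hc (by norm_num) hzero (μ := 1) (by norm_num)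
  obtain ⟨m2, h2⟩ := twist_const χ Nat.prime_five hy ht hc (by norm_num) hzero (μ := -1) (by norm_num)
  simp only [Finset.sum_range_succ, Finset.sum_range_zero, pow_zero, pow_one, irr_one_eq, hv] at h1 h2
  refine ⟨(m1 : ℤ) - m2, ?_⟩
  have : (2 * v : ℂ) = ((2 * (5 * ((m1 : ℤ) - m2)) : ℤ) : ℂ) := by
    push_cast at h1 h2 ⊢; linear_combination h1 - h2
  have h' : 2 * v = 2 * (5 * ((m1 : ℤ) - m2)) := by exact_mod_cast this
  omega

end CfsgLib.KGroups.ElevenOrders
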