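import Cfsg.Agent.Lib.KGroups.ElevenOrders.Check
import Cfsg.Agent.Lib.KGroups.ElevenOrders.Values

/-!
# Simple groups of order dividing 95040 and divisible by eleven

The principal 11-block closes every case of Sylow's theorem.
-/

set_option autoImplicit false

namespace CfsgLib.KGroups.ElevenOrders

open Cfsg CfsgLib.Blocks CfsgLib.KGroups.M11Tools CfsgLib.KGroups.M12Tools
  CfsgLib.KGroups.M12Local CfsgLib.KGroups.M22Tools CfsgLib.KGroups.M22Frame Subgroup
open CfsgLib.SmallGroups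
open scoped Classical

theorem fullPart_spec : ∀ n ∈ orders, ∀ q ∈ ([2, 3, 5] : List ℕ), ((List.range 8).any fun N =>
    decide (fullPart n q = q ^ N) && decide (n % q ^ N = 0) && decide (n % q ^ (N + 1) ≠ 0)) = true := by
  decide +kernel

theorem orders_spec : ∀ n ∈ orders, n = 11 * (n / 11) ∧ ¬ 11 ∣ n / 11 ∧ n ≤ 47520 ∧ ¬ 25 ∣ n ∧ ¬ n.Prime := by
  have key : ∀ n ∈ orders, n = 11 * (n / 11) ∧ n / 11 % 11 ≠ 0 ∧ n ≤ 47520 ∧ n % 25 ≠ 0 ∧ 11 < n := by
    decide +kernel
  intro n hn
  obtain ⟨h1, h2, h3, h4, h5⟩ := key n hn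
  refine ⟨h1, fun h => h2 (Nat.mod_eq_zero_of_dvd h), h3, fun h => h4 (Nat.mod_eq_zero_of_dvd h), fun h => ?_⟩
  have := (Nat.prime_dvd_prime_iff_eq (by norm_num : Nat.Prime 11) h).mp ⟨_, h1⟩
  omega

theorem qOf_cases (k : ℕ) : (qOf k = 1 ∧ k % 2 = 1) ∨
    ((qOf k = 2 ∨ qOf k = 3 ∨ qOf k = 5) ∧ qOf k ∣ k ∧ (qOf k ≠ 2 → k % 2 = 1)) := by
  unfold qOf
  split_ifs with h1 h2 h3
  · exact Or.inr ⟨Or.inl rfl, Nat.dvd_of_mod_eq_zero h1, fun h => absurd rfl h⟩
  · exact Or.inr ⟨Or.inr (Or.inl rfl), Nat.dvd_of_mod_eq_zero h2, fun _ => by omega⟩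
  · exact Or.inr ⟨Or.inr (Or.inr rfl), Nat.dvd_of_mod_eq_zero h3, fun _ => by omega⟩
  · exact Or.inl ⟨rfl, by omega⟩

/-- The lower bound for a signed value at an involution of the normaliser. -/
def lowVal (a : ℤ) : ℤ := if a = 45 then 5 else if a = 144 then -14 else 0

theorem sum_lowVal (l : List ℤ) : (l.map lowVal).sum = 5 * (l.count 45 : ℤ) - 14 * (l.count 144 : ℤ) := by
  induction l with
  | nil => simp
  | cons a l ih =>
    rw [List.map_cons, List.sum_cons, ih, List.count_cons, List.count_cons]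
    unfold lowVal
    split_ifs with h1 h2 <;> simp_all <;> push_cast <;> omega

variable {G : Type*} [Group G] [Fintype G]

section Local

variable [hp : Fact (Nat.Prime 11)] {P : Sylow 11 G} {x : G} (hxP : x ∈ (P : Subgroup G)) (hx : orderOf x = 11)
  (hzp : zpowers x = (P : Subgroup G))

omit hp [Fintype G] in
include hxP in
theorem commute_of_mem_centralizer {u : G} (hu : u ∈ centralizer ((P : Subgroup G) : Set G)) : Commute x u :=
  mem_centralizer_iff.mp hu x hxP

include hxP in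
/-- An element commuting with a generator, of a prime order dividing the index. -/
theorem exists_commuting_prime {q k : ℕ} (hq : q.Prime) (hqk : q ∣ k)
    (hC : Nat.card (centralizer ((P : Subgroup G) : Set G)) = 11 * k) :
    ∃ u : G, orderOf u = q ∧ Commute x u := by
  haveI : Fact q.Prime := ⟨hq⟩
  obtain ⟨⟨u, huC⟩, hu⟩ := exists_prime_orderOf_dvd_card' (G := ↥(centralizer ((P : Subgroup G) : Set G))) q
    (hC ▸ hqk.mul_left 11)
  rw [Subgroup.orderOf_mk] at hu
  exact ⟨u, hu, commute_of_mem_centralizer hxP huC⟩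

include hxP hx hzp in
/-- An involution of the normaliser inverts a generator when the centraliser has odd order. -/
theorem inverts {k : ℕ} (hk : k % 2 = 1) (hC : Nat.card (centralizer ((P : Subgroup G) : Set G)) = 11 * k)
    {t : G} (htN : t ∈ normalizer ((P : Subgroup G) : Set G)) (ht : orderOf t = 2) : t * x * t⁻¹ = x⁻¹ := by
  have h1 : t * x * t⁻¹ ∈ zpowers x := hzp ▸ (mem_normalizer_iff.mp htN x).mp hxP
  obtain ⟨j, hj⟩ := h1
  have hj' : x ^ j = t * x * t⁻¹ := hj
  have hsq : x ^ (j * j) = x := by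
    calc x ^ (j * j) = (t * x * t⁻¹) ^ j := by rw [← hj', zpow_mul]
      _ = t * (t * x * t⁻¹) * t⁻¹ := by rw [conj_zpow, hj']
      _ = (t * t) * x * (t * t)⁻¹ := by group
      _ = x := by rw [← pow_two, ← ht, pow_orderOf_eq_one]; group
  have hdvd : (11 : ℤ) ∣ (j - 1) * (j + 1) := by
    have : (orderOf x : ℤ) ∣ j * j - 1 := orderOf_dvd_iff_zpow_eq_one.mpr (by
      rw [zpow_sub, hsq, zpow_one, mul_inv_cancel])
    rw [hx] at this
    rwa [show (j - 1) * (j + 1) = j * j - 1 by ring]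
  rcases Int.Prime.dvd_mul' hp.out hdvd with h | h
  · exfalso
    have hc : Commute t x := by
      have h2 : x ^ (j - 1) = 1 := orderOf_dvd_iff_zpow_eq_one.mp (by rw [hx]; exact h)
      rw [zpow_sub, zpow_one, mul_inv_eq_one, hj'] at h2
      calc t * x = t * x * t⁻¹ * t := by group
        _ = x * t := by rw [h2]
    have htC : t ∈ centralizer ((P : Subgroup G) : Set G) := mem_centralizer_iff.mpr fun g hg => by
      obtain ⟨i, rfl⟩ := (hzp ▸ hg : g ∈ zpowers x)
      exact (hc.zpow_right i).symm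
    have h3 := Subgroup.orderOf_dvd_natCard _ htC
    rw [ht, hC] at h3
    omega
  · have h2 : x ^ (j + 1) = 1 := orderOf_dvd_iff_zpow_eq_one.mp (by rw [hx]; exact h)
    rw [zpow_add, zpow_one, hj'] at h2
    exact eq_inv_of_mul_eq_one_left h2

/-- Commuting elements of orders two and five in a normaliser inducing ten automorphisms. -/
theorem exists_two_five (P : Sylow 11 G) (hP : Nat.card (P : Subgroup G) = 11) {k : ℕ}
    (hN : Nat.card (normalizer ((P : Subgroup G) : Set G)) = 10 * (11 * k))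
    (hC : Nat.card (centralizer ((P : Subgroup G) : Set G)) = 11 * k) :
    ∃ t y : G, t ∈ normalizer ((P : Subgroup G) : Set G) ∧ orderOf t = 2 ∧ orderOf y = 5 ∧ Commute y t := by
  set φ := normalizerMonoidHom (P : Subgroup G) with hφ
  have hcyc : IsCyclic ↥(P : Subgroup G) := isCyclic_of_prime_card hP
  have hrange : Nat.card φ.range = 10 := by
    rw [← index_ker, hφ, normalizerMonoidHom_ker]
    have h := ((centralizer ((P : Subgroup G) : Set G)).subgroupOf
      (normalizer ((P : Subgroup G) : Set G))).index_mul_card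
    rw [Nat.card_congr (subgroupOfEquivOfLe (Subgroup.centralizer_le_normalizer _)).toEquiv, hN, hC] at h
    have hk : 0 < 11 * k := hC ▸ Nat.card_pos
    exact Nat.eq_of_mul_eq_mul_right hk h
  have : IsCyclic (MulAut ↥(P : Subgroup G)) := by
    have e := IsCyclic.mulAutMulEquiv ↥(P : Subgroup G)
    rw [hP] at e
    exact isCyclic_of_surjective e.symm e.symm.surjective
  obtain ⟨⟨a, g, rfl⟩, ha⟩ := (inferInstance : IsCyclic φ.range).exists_ofOrder_eq_natCard
  rw [hrange, ← Subgroup.orderOf_coe] at ha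
  have h10 : 10 ∣ orderOf (g : G) := by
    rw [Subgroup.orderOf_coe, ← ha]; exact orderOf_map_dvd φ g
  refine ⟨(g : G) ^ (orderOf (g : G) / 2), (g : G) ^ (orderOf (g : G) / 5), pow_mem g.2 _,
    orderOf_pow_orderOf_div (orderOf_pos _).ne' ((by norm_num : 2 ∣ 10).trans h10),
    orderOf_pow_orderOf_div (orderOf_pos _).ne' ((by norm_num : 5 ∣ 10).trans h10),
    (Commute.refl _).pow_pow _ _⟩

end Local

section Members

variable [IsSimpleGroup G] (hG : ¬ IsMulCommutative G) [hp : Fact (Nat.Prime 11)] {x : G} (hx : orderOf x = 11)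
  {χ : IrrCharacter G} {s : ℤ} (hs : s = 1 ∨ s = -1) (hne : χ ≠ trivChar G)
  (hmod : (charDegree (χ : G → ℂ) : ℤ) ≡ s [ZMOD (11 : ℕ)])
  (hval : ∀ i, ¬ 11 ∣ i → ∀ u : G, Commute x u → ¬ 11 ∣ orderOf u → (χ : G → ℂ) (x ^ i * u) = (s : ℂ))
include hG hx hs hne hmod hval

omit hs hne hmod in
theorem val_pow {i : ℕ} (hi : ¬ 11 ∣ i) : (χ : G → ℂ) (x ^ i) = (s : ℂ) := by
  have h := hval i hi 1 (Commute.one_right _) (by rw [orderOf_one]; norm_num)
  rwa [mul_one] at h

/-- The signed degree of a member is allowed. -/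
theorem signed_mem (hn : Nat.card G ∈ orders) {q : ℕ}
    (hq1 : q = 1 → ∃ t : G, orderOf t = 2 ∧ t * x * t⁻¹ = x⁻¹)
    (hqu : q ≠ 1 → (q = 2 ∨ q = 3 ∨ q = 5) ∧ ∃ u : G, orderOf u = q ∧ Commute x u) :
    s * (charDegree (χ : G → ℂ) : ℤ) ∈ allow (Nat.card G) q := by
  set d := charDegree (χ : G → ℂ) with hd
  obtain ⟨-, -, hle, -, -⟩ := orders_spec _ hn
  have hd2 : 2 ≤ d := by
    have := charDegree_pos χ
    have : d ≠ 1 := fun h => hne (BlockDegrees.eq_trivChar hG χ h)
    omega
  have hsq : d * d ≤ Nat.card G := by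
    rw [← sum_deg_sq, ← pow_two]
    exact Finset.single_le_sum (f := fun η : IrrCharacter G => charDegree (η : G → ℂ) ^ 2)
      (fun _ _ => Nat.zero_le _) (Finset.mem_univ χ)
  have hd220 : d < 220 := by nlinarith
  rw [Int.ModEq] at hmod
  have hok : memberOk (Nat.card G) q d = true := by
    unfold memberOk
    split_ifs with h1
    · rw [decide_eq_true_iff]
      intro h10
      obtain ⟨t, ht, hinv⟩ := hq1 h1
      obtain ⟨v, hv⟩ := exists_int_two χ ht
      have hb := fixed_bound hx (by norm_num) ht hinv χ (fun i hi => val_pow hG hx hval hi) hv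
      have h4 := ValueTools.mod_four hG χ ht hv
      rw [← hd] at hb h4
      rw [h10] at hb h4 hmod
      rcases hs with rfl | rfl <;> push_cast at hb hmod h4 <;>
        (have := le_abs_self v; have := neg_abs_le v; omega)
    · obtain ⟨hq, u, hu, hc⟩ := hqu h1
      have hu11 : ¬ 11 ∣ orderOf u := by rcases hq with rfl | rfl | rfl <;> rw [hu] <;> norm_num
      have hqp : q.Prime := by rcases hq with rfl | rfl | rfl <;> norm_num
      simp only [Bool.and_eq_true, Bool.or_eq_true, decide_eq_true_iff]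
      refine ⟨?_, fun h0 => ?_⟩
      · rcases hq with rfl | rfl | rfl
        · obtain ⟨v, -, h4, h22, hlt⟩ := member_two hx hval hG (by norm_num) hne hu hc
          push_cast at h22
          rw [← hd] at h4 h22 hlt
          omega
        · exact Or.inr (member_three hx hval hG (by norm_num) hne hu hc)
        · exact Or.inl rfl
      · obtain ⟨N, -, hN⟩ := List.any_eq_true.mp (fullPart_spec _ hn q (by
          rcases hq with rfl | rfl | rfl <;> simp))
        simp only [Bool.and_eq_true, decide_eq_true_iff] at hN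
        rw [hN.1.1] at h0
        have h := hval 1 (by norm_num) u hc hu11
        rw [pow_one, vanish χ hqp (Nat.dvd_of_mod_eq_zero hN.1.2) (fun e => hN.2 (Nat.mod_eq_zero_of_dvd e))
          (Nat.dvd_of_mod_eq_zero h0) ((hu ▸ dvd_refl _ : q ∣ orderOf u).trans (by
            rw [hc.orderOf_mul_eq_mul_orderOf_of_coprime (by rw [hx]; exact hp.out.coprime_iff_not_dvd.mpr hu11), hx]
            exact dvd_mul_left _ _))] at h
        rcases hs with rfl | rfl <;> norm_num at h
  refine List.mem_map.mpr ⟨d, List.mem_filter.mpr ⟨List.mem_range.mpr hd220, ?_⟩, ?_⟩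
  · simp only [Bool.and_eq_true, Bool.or_eq_true, decide_eq_true_iff]
    exact ⟨⟨⟨⟨hd2, Nat.mod_eq_zero_of_dvd (charDegree_dvd χ)⟩, hsq⟩,
      by rcases hs with rfl | rfl <;> omega⟩, hok⟩
  · rcases hs with rfl | rfl
    · rw [if_pos (by omega), one_mul]
    · rw [if_neg (by omega), neg_one_mul]

/-- The signed value at an inverting involution is bounded below. -/
theorem lowVal_le (h25 : ¬ 25 ∣ Nat.card G)
    (hmem : s * (charDegree (χ : G → ℂ) : ℤ) ∈ ([12, -32, 45, -120, 144] : List ℤ)) {t y : G}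
    (ht : orderOf t = 2) (hinv : t * x * t⁻¹ = x⁻¹) (hy : orderOf y = 5) (hyt : Commute y t) {v : ℤ}
    (hv : (χ : G → ℂ) t = v) : lowVal (s * (charDegree (χ : G → ℂ) : ℤ)) ≤ s * v := by
  have h5 : 5 ∣ Nat.card G := hy ▸ orderOf_dvd_natCard y
  have h4 := ValueTools.mod_four hG χ ht hv
  have hb := fixed_bound hx (by norm_num) ht hinv χ (fun i hi => val_pow hG hx hval hi) hv
  push_cast at hb
  have hv1 := le_abs_self v
  have hv2 := neg_abs_le v
  have h5v : 5 ∣ charDegree (χ : G → ℂ) → (5 : ℤ) ∣ v := fun hd => five_dvd χ h5 h25 hd hy ht hyt hv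
  simp only [List.mem_cons, List.not_mem_nil, or_false] at hmem
  rcases hs with rfl | rfl
  · rw [one_mul] at hmem ⊢
    rcases hmem with h | h | h | h | h
    · simp only [lowVal, h]; norm_num; omega
    · omega
    · have := h5v (by omega); simp only [lowVal, h]; norm_num; omega
    · omega
    · simp only [lowVal, h]; norm_num; omega
  · rw [neg_one_mul] at hmem ⊢
    rcases hmem with h | h | h | h | h
    · omega
    · simp only [lowVal, h]; norm_num; omega
    · omega
    · have := h5v (by omega); simp only [lowVal, h]; norm_num; omega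
    · omega

end Members

theorem list_of {ι : Type*} {S : Finset ι} {f : ι → ℤ} {A : List ℤ} {k : ℕ} (hS : S.card = k)
    (h : ∀ i ∈ S, f i ∈ A) : ∃ l ∈ combs A k, (l : Multiset ℤ) = S.val.map f := by
  refine combs_complete A k _ (by rw [Multiset.card_map]; exact hS) fun a ha => ?_
  obtain ⟨i, hi, rfl⟩ := Multiset.mem_map.mp ha
  exact h i hi

theorem sum_of_list {ι : Type*} {S : Finset ι} {f : ι → ℤ} {l : List ℤ} (hl : (l : Multiset ℤ) = S.val.map f)
    {M : Type*} [AddCommMonoid M] (g : ℤ → M) : (l.map g).sum = ∑ i ∈ S, g (f i) := by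
  rw [← Multiset.sum_coe, ← Multiset.map_coe, hl, Multiset.map_map]
  rfl

variable [IsSimpleGroup G]

/-- Ten automorphisms. -/
theorem not_ten (hn : Nat.card G ∈ orders) [Fact (Nat.Prime 11)] {P : Sylow 11 G}
    (hP : Nat.card (P : Subgroup G) = 11) (F : Frame 11 10 P) {k : ℕ} (hok : caseOk (Nat.card G) 10 k = true)
    (hN : Nat.card (normalizer ((P : Subgroup G) : Set G)) = 10 * (11 * k))
    (hC : Nat.card (centralizer ((P : Subgroup G) : Set G)) = 11 * k) : False := by
  obtain ⟨-, -, -, h25, hnp⟩ := orders_spec _ hn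
  have hna : ¬ IsMulCommutative G := SimpleTools.not_comm_of_card hnp
  set q := qOf k with hq
  simp only [caseOk, ← hq, Bool.and_eq_true, if_true, List.all_eq_true, Bool.or_eq_true, decide_eq_true_iff,
    bne_iff_ne, ne_eq] at hok
  obtain ⟨hk1, hall⟩ := hok
  obtain ⟨θ, hθ⟩ := Finset.card_eq_one.mp (show F.Y.card = 1 by rw [F.hY])
  let σ : IrrCharacter G → ℤ := fun χ => if χ ∈ F.X then F.sgn χ else -F.εy
  have hσ : ∀ χ ∈ F.X ∪ F.Y, (σ χ = 1 ∨ σ χ = -1) ∧
      (charDegree (χ : G → ℂ) : ℤ) ≡ σ χ [ZMOD (11 : ℕ)] ∧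
      ∀ i, ¬ 11 ∣ i → ∀ u : G, Commute F.x u → ¬ 11 ∣ orderOf u → (χ : G → ℂ) (F.x ^ i * u) = (σ χ : ℂ) := by
    intro χ hχ
    by_cases hX : χ ∈ F.X
    · simp only [σ, if_pos hX]; exact ⟨F.hsgn χ hX, F.hmod χ hX, F.hval χ hX⟩
    · have hY : χ ∈ F.Y := (Finset.mem_union.mp hχ).resolve_left hX
      simp only [σ, if_neg hX]
      refine ⟨by rcases F.hεy with e | e <;> rw [e] <;> norm_num, ?_, fun i hi u hc hu => ?_⟩
      · have h := F.hYd χ hY
        rw [Int.ModEq] at h ⊢
        rcases F.hεy with e | e <;> rw [e] at h ⊢ <;> push_cast at h ⊢ <;> omega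
      · rw [single_val F (by rw [F.hY]) hY hi hc hu]; push_cast; rfl
  have htU : trivChar G ∈ F.X ∪ F.Y := Finset.mem_union.mpr F.htriv
  have hσ1 : σ (trivChar G) = 1 := by
    have h := (hσ _ htU).2.2 1 (by norm_num) 1 (Commute.one_right _) (by rw [orderOf_one]; norm_num)
    rw [trivChar_apply] at h
    exact_mod_cast h.symm
  set S := (F.X ∪ F.Y).erase (trivChar G) with hS
  have hScard : S.card = 10 := by
    rw [hS, Finset.card_erase_of_mem htU, Finset.card_union_of_disjoint F.hdisj, F.hX, F.hY]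
  have hrel : ∀ g : G, ¬ 11 ∣ orderOf g → 1 + ∑ χ ∈ S, (σ χ : ℂ) * (χ : G → ℂ) g = 0 := by
    intro g hg
    have h : ∑ χ ∈ F.X ∪ F.Y, (σ χ : ℂ) * (χ : G → ℂ) g = 0 := by
      rw [Finset.sum_union F.hdisj, hθ, Finset.sum_singleton,
        Finset.sum_congr rfl (g := fun χ : IrrCharacter G => (F.sgn χ : ℂ) * (χ : G → ℂ) g)
          fun χ hχ => by simp only [σ, if_pos hχ],
        ← F.hrel θ (hθ ▸ Finset.mem_singleton_self θ) g hg]
      simp only [σ, if_neg (Finset.disjoint_right.mp F.hdisj (hθ ▸ Finset.mem_singleton_self θ))]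
      push_cast
      ring
    rw [← Finset.add_sum_erase _ _ htU, hσ1, trivChar_apply] at h
    simpa [hS] using h
  have hmemS : ∀ χ ∈ S, χ ∈ F.X ∪ F.Y ∧ χ ≠ trivChar G := fun χ hχ =>
    ⟨(Finset.mem_erase.mp hχ).2, (Finset.mem_erase.mp hχ).1⟩
  have hodd : q ≠ 2 → k % 2 = 1 := fun h => by
    rcases qOf_cases k with ⟨-, h'⟩ | ⟨-, -, h'⟩
    · exact h'
    · exact h' h
  obtain ⟨t, y, htN, ht, hy, hyt⟩ := exists_two_five P hP hN hC
  have hmemA : ∀ χ ∈ S, σ χ * (charDegree (χ : G → ℂ) : ℤ) ∈ allow (Nat.card G) q := fun χ hχ => by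
    obtain ⟨hs, hm, hv⟩ := hσ χ (hmemS χ hχ).1
    refine signed_mem hna F.hx hs (hmemS χ hχ).2 hm hv hn (fun h1 => ⟨t, ht, inverts F.hxP F.hx F.hzp
      (hodd (by omega)) hC htN ht⟩) fun h1 => ?_
    rcases qOf_cases k with ⟨h, -⟩ | ⟨h, hd, -⟩
    · exact absurd h h1
    · have hqp : q.Prime := by rcases h with e | e | e <;> rw [hq, e] <;> norm_num
      exact ⟨h, exists_commuting_prime F.hxP hqp hd hC⟩
  obtain ⟨l, hl, hl'⟩ := list_of (f := fun χ : IrrCharacter G => σ χ * (charDegree (χ : G → ℂ) : ℤ)) hScard hmemA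
  rcases hall l hl with (h | h) | h
  · refine h ?_
    rw [← List.map_id' l, sum_of_list hl' fun a => a]
    have h1 := hrel 1 (by rw [orderOf_one]; norm_num)
    simp only [irr_one_eq] at h1
    exact_mod_cast h1
  · refine absurd h (Nat.not_lt.mpr ?_)
    rw [sum_of_list hl' fun a => a.natAbs ^ 2, ← sum_deg_sq,
      Finset.sum_congr rfl (g := fun χ : IrrCharacter G => charDegree (χ : G → ℂ) ^ 2) fun χ hχ => by
        rcases (hσ χ (hmemS χ hχ).1).1 with e | e <;> simp [e]]
    calc 1 + ∑ χ ∈ S, charDegree (χ : G → ℂ) ^ 2 =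
          ∑ χ ∈ F.X ∪ F.Y, charDegree (χ : G → ℂ) ^ 2 := by
          rw [← Finset.add_sum_erase _ _ htU]; simp [hS, charDegree]
      _ ≤ _ := Finset.sum_le_sum_of_subset (Finset.subset_univ _)
  · simp only [valueBad, Bool.and_eq_true, Bool.or_eq_true, decide_eq_true_iff, List.all_eq_true] at h
    obtain ⟨⟨hq13, hall5⟩, hcount⟩ := h
    have hinv := inverts F.hxP F.hx F.hzp (hodd (by omega)) hC htN ht
    choose v hv using fun χ : IrrCharacter G => exists_int_two χ ht
    have hlow : ∀ χ ∈ S, lowVal (σ χ * (charDegree (χ : G → ℂ) : ℤ)) ≤ σ χ * v χ := fun χ hχ => by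
      obtain ⟨hs, hm, hv'⟩ := hσ χ (hmemS χ hχ).1
      refine lowVal_le hna F.hx hs (hmemS χ hχ).2 hm hv' h25 (hall5 _ ?_) ht hinv hy hyt (hv χ)
      rw [← Multiset.mem_coe, hl']
      exact Multiset.mem_map_of_mem _ hχ
    have hsum : 1 + ∑ χ ∈ S, σ χ * v χ = 0 := by
      have h1 := hrel t (by rw [ht]; norm_num)
      simp only [hv] at h1
      exact_mod_cast h1
    have hge := Finset.sum_le_sum hlow
    rw [← sum_of_list hl' lowVal, sum_lowVal] at hge
    omega

/-- Two or five automorphisms. -/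
theorem not_two_five (hn : Nat.card G ∈ orders) [Fact (Nat.Prime 11)] {P : Sylow 11 G} {e : ℕ}
    (he : e = 2 ∨ e = 5) (F : Frame 11 e P) {k : ℕ} (hok : caseOk (Nat.card G) e k = true)
    (hN : Nat.card (normalizer ((P : Subgroup G) : Set G)) = e * (11 * k))
    (hC : Nat.card (centralizer ((P : Subgroup G) : Set G)) = 11 * k) : False := by
  obtain ⟨-, -, -, -, hnp⟩ := orders_spec _ hn
  have hna : ¬ IsMulCommutative G := SimpleTools.not_comm_of_card hnp
  set q := qOf k with hq
  simp only [caseOk, ← hq, Bool.and_eq_true, if_neg (show ¬ e = 10 by omega), List.all_eq_true,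
    Bool.not_eq_true', Bool.or_eq_true, decide_eq_true_iff, bne_iff_ne, ne_eq] at hok
  obtain ⟨hk1, hall⟩ := hok
  have ht := F.triv_mem (by omega) (by omega) (by omega)
  have hcases : (q = 1 ∧ k = 1 ∧ e = 2) ∨ ((q = 2 ∨ q = 3 ∨ q = 5) ∧ q ∣ k) := by
    rcases qOf_cases k with ⟨h, -⟩ | ⟨h, hd, -⟩
    · exact Or.inl ⟨h, (hk1.resolve_left (by rw [hq]; simp [h])).1, by
        have := (hk1.resolve_left (by rw [hq]; simp [h])).2; omega⟩
    · exact Or.inr ⟨h, hd⟩
  have hu : q ≠ 1 → (q = 2 ∨ q = 3 ∨ q = 5) ∧ ∃ u : G, orderOf u = q ∧ Commute F.x u := fun h1 => by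
    obtain ⟨h, hd⟩ := hcases.resolve_left fun h => h1 h.1
    have hqp : q.Prime := by rcases h with e | e | e <;> rw [e] <;> norm_num
    exact ⟨h, exists_commuting_prime F.hxP hqp hd hC⟩
  have hmemA : ∀ χ ∈ F.X', F.sgn χ * (charDegree (χ : G → ℂ) : ℤ) ∈ allow (Nat.card G) q := fun χ hχ => by
    obtain ⟨hX, hne⟩ := F.mem_X hχ
    refine signed_mem hna F.hx (F.hsgn χ hX) hne (F.hmod χ hX) (F.hval χ hX) hn (fun h1 => ?_) hu
    obtain ⟨-, rfl, rfl⟩ := hcases.resolve_right fun h => by omega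
    haveI : Fact (Nat.Prime 2) := ⟨Nat.prime_two⟩
    obtain ⟨⟨t, htN⟩, hto⟩ := exists_prime_orderOf_dvd_card'
      (G := ↥(normalizer ((P : Subgroup G) : Set G))) 2 (hN ▸ dvd_mul_right 2 _)
    rw [Subgroup.orderOf_mk] at hto
    exact ⟨t, hto, inverts F.hxP F.hx F.hzp (by norm_num) hC htN hto⟩
  have hcard : F.X'.card = e - 1 := by have := F.card_X' ht; omega
  obtain ⟨l, hl, hl'⟩ := list_of hcard hmemA
  have hf := hall l hl
  obtain ⟨θ, hθ⟩ : F.Y.Nonempty := Finset.card_pos.1 (by rw [F.hY]; rcases he with rfl | rfl <;> norm_num)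
  set b := charDegree (θ : G → ℂ) with hb
  have hs : 1 + l.sum = F.εy * (b : ℤ) := by
    rw [hb, F.rel_one ht hθ, ← List.map_id' l, sum_of_list hl' fun a => a]
  have hbabs : (1 + l.sum).natAbs = b := by
    rw [hs]; rcases F.hεy with e1 | e1 <;> simp [e1]
  have hok' : excOk (Nat.card G) e q l = true := by
    simp only [excOk, hbabs, Bool.and_eq_true, Bool.or_eq_true, decide_eq_true_iff]
    refine ⟨⟨⟨⟨⟨(charDegree_pos θ).ne', Nat.mod_eq_zero_of_dvd (charDegree_dvd θ)⟩, ?_⟩, ?_⟩, ?_⟩, ?_⟩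
    · have h := F.hYd θ hθ
      rw [Int.ModEq] at h
      rw [hs]
      rcases F.hεy with e1 | e1 <;> rw [e1] at h ⊢ <;> rcases he with rfl | rfl <;> push_cast at h ⊢ <;> omega
    · rcases hcases with ⟨h, -⟩ | ⟨h, -⟩
      · exact Or.inl h
      · refine Or.inr fun h0 => ?_
        obtain ⟨hh, u, huo, hc⟩ := hu (by omega)
        have hqp : q.Prime := by rcases hh with e1 | e1 | e1 <;> rw [e1] <;> norm_num
        obtain ⟨N, -, hNq⟩ := List.any_eq_true.mp (fullPart_spec _ hn q (by
          rcases hh with e1 | e1 | e1 <;> rw [e1] <;> simp))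
        simp only [Bool.and_eq_true, decide_eq_true_iff] at hNq
        rw [hNq.1.1] at h0
        exact theta_not_full F hθ hqp (Nat.dvd_of_mod_eq_zero hNq.1.2)
          (fun e1 => hNq.2 (Nat.mod_eq_zero_of_dvd e1)) huo (by omega) hc (Nat.dvd_of_mod_eq_zero h0)
    · by_cases h2 : q = 2
      · obtain ⟨-, u, huo, hc⟩ := hu (by omega)
        exact Or.inr (theta_two F hna (by norm_num) ht hθ (h2 ▸ huo) hc)
      · by_cases h3 : q = 3
        · obtain ⟨-, u, huo, hc⟩ := hu (by omega)
          exact Or.inr (theta_three F hna (by norm_num) ht hθ (h3 ▸ huo) hc)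
        · exact Or.inl ⟨h2, h3⟩
    · rw [sum_of_list hl' fun a => a.natAbs ^ 2, ← sum_deg_sq,
        Finset.sum_congr rfl (g := fun χ : IrrCharacter G => charDegree (χ : G → ℂ) ^ 2) fun χ hχ => by
          rcases F.hsgn χ (F.mem_X hχ).1 with e1 | e1 <;> simp [e1]]
      calc _ = ∑ χ ∈ F.X ∪ F.Y, charDegree (χ : G → ℂ) ^ 2 := by
            rw [Finset.sum_union F.hdisj, ← Finset.add_sum_erase _ _ ht,
              Finset.sum_congr (s₂ := F.Y) rfl (g := fun _ => b ^ 2) fun η hη => by rw [F.deg_agree hη hθ],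
              Finset.sum_const, F.hY, smul_eq_mul]
            simp [Frame.X', charDegree]
        _ ≤ _ := Finset.sum_le_sum_of_subset (Finset.subset_univ _)
  rw [hok'] at hf
  exact Bool.noConfusion hf

omit [Fintype G] in
/-- A simple group has none of the listed orders. -/
theorem false_of_card [Finite G] (hn : Nat.card G ∈ orders) : False := by
  have := Fintype.ofFinite G
  haveI : Fact (Nat.Prime 11) := ⟨by norm_num⟩
  obtain ⟨h11, hnd, -, -, hnp⟩ := orders_spec _ hn
  have hna : ¬ IsMulCommutative G := SimpleTools.not_comm_of_card hnp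
  obtain ⟨P⟩ : Nonempty (Sylow 11 G) := inferInstance
  have hP : Nat.card (P : Subgroup G) = 11 := by
    simpa using SimpleTools.card_sylow_subgroup (k := 1) (m := Nat.card G / 11) (by simpa using h11) hnd P
  obtain ⟨e, k, he1, he, hN, hC⟩ := LocalTools.exists_e hna P hP
  have hmul := SimpleTools.card_normalizer_mul P
  have hn1 := SimpleTools.card_sylow_ne_one (p := 11) hna (h11 ▸ dvd_mul_right 11 _)
  have hmod : Nat.card (Sylow 11 G) % 11 = 1 := card_sylow_modEq_one 11 G
  set a := Nat.card (Sylow 11 G) with ha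
  rw [hN] at hmul
  set n := Nat.card G with hnG
  have hk0 : 0 < k := Nat.pos_of_ne_zero fun h => by
    have := hC ▸ (Nat.card_pos (α := ↥(centralizer ((P : Subgroup G) : Set G))))
    simp [h] at this
  have he' : e = 2 ∨ e = 5 ∨ e = 10 := by
    have := Nat.le_of_dvd (by norm_num) he
    interval_cases e <;> omega
  have hm : n / 11 = a * (e * k) := by
    rw [← hmul, show a * (e * (11 * k)) = 11 * (a * (e * k)) by ring, Nat.mul_div_cancel_left _ (by norm_num)]
  have hek : 0 < e * k := Nat.mul_pos (by omega) hk0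
  have hcase : sylowCase n e k = true := by
    simp only [sylowCase, hm, Bool.and_eq_true, decide_eq_true_iff, Nat.mul_div_cancel _ hek,
      Nat.mul_mod_left]
    exact ⟨⟨trivial, hmod⟩, hn1⟩
  have hrange : k ∈ List.range (n / 11 / e / 11 + 1) := by
    rw [List.mem_range, Nat.lt_succ_iff, hm, show a * (e * k) = a * k * e by ring,
      Nat.mul_div_cancel _ (by omega), Nat.le_div_iff_mul_le (by norm_num)]
    have : 11 ≤ a := by omega
    nlinarith
  have hok := case_key n hn e (by rcases he' with rfl | rfl | rfl <;> simp) k hrange hcase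
  obtain ⟨F⟩ := exists_frame (e := e) (by norm_num) P hP (by rw [hN, hC])
  rcases he' with rfl | rfl | rfl
  · exact not_two_five hn (Or.inl rfl) F hok hN hC
  · exact not_two_five hn (Or.inr rfl) F hok hN hC
  · exact not_ten hn hP F hok hN hC

theorem orders_complete : ∀ d ∈ List.range 220, ∀ m ∈ List.range 40,
    11 * d * (m + 1) ≠ 0 → d * (m + 1) ≠ 1 → 11 * d * (m + 1) ∣ 95040 →
      11 * d * (m + 1) ∈ orders ∨ 11 * d * (m + 1) ∈ ([660, 7920, 95040] : List ℕ) := by
  decide +kernel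

omit [Fintype G] in
/-- A simple group of order dividing 95040 and divisible by eleven. -/
theorem card_of_dvd [Finite G] (hd : Nat.card G ∣ 95040) (h11 : 11 ∣ Nat.card G) (hne : Nat.card G ≠ 11) :
    Nat.card G = 660 ∨ Nat.card G = 7920 ∨ Nat.card G = 95040 := by
  obtain ⟨a, ha⟩ := h11
  have hpos : 0 < a := Nat.pos_of_ne_zero fun h => by
    have := Nat.card_pos (α := G)
    rw [ha, h] at this
    simp at this
  have h8640 : a ∣ 8640 := by
    have h2 : 11 * a ∣ 11 * 8640 := by rw [← ha]; simpa using hd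
    exact Nat.dvd_of_mul_dvd_mul_left (by norm_num) h2
  -- split `a` as a small factor and a factor at most forty
  obtain ⟨d, hd220, m, hm, rfl⟩ : ∃ d, d < 220 ∧ ∃ m, m < 40 ∧ a = d * (m + 1) := by
    have key : ∀ b ∈ List.range 94, b ∣ 8640 → (∃ d ∈ List.range 220, ∃ m ∈ List.range 40, b = d * (m + 1)) ∧
        ∃ d ∈ List.range 220, ∃ m ∈ List.range 40, 8640 / b = d * (m + 1) := by
      decide +kernel
    obtain ⟨c, hc⟩ := h8640
    have hc0 : 0 < c := Nat.pos_of_ne_zero fun h => by rw [h] at hc; simp at hc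
    by_cases h : a < 94
    · obtain ⟨⟨d, hd1, m, hm1, he⟩, -⟩ := key a (List.mem_range.mpr h) ⟨c, hc⟩
      exact ⟨d, List.mem_range.mp hd1, m, List.mem_range.mp hm1, he⟩
    · have hc94 : c < 94 := by nlinarith
      obtain ⟨-, d, hd1, m, hm1, he⟩ := key c (List.mem_range.mpr hc94) ⟨a, hc.trans (mul_comm a c)⟩
      rw [hc, Nat.mul_div_cancel _ hc0] at he
      exact ⟨d, List.mem_range.mp hd1, m, List.mem_range.mp hm1, he⟩
  rw [← mul_assoc] at ha
  rcases orders_complete d (List.mem_range.mpr hd220) m (List.mem_range.mpr hm) (ha ▸ Nat.card_pos.ne')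
    (fun h => hne (by rw [ha, mul_assoc, h, mul_one])) (ha ▸ hd) with h | h
  · exact (false_of_card (ha ▸ h)).elim
  · simp only [List.mem_cons, List.not_mem_nil, or_false] at h
    rw [ha]
    exact h

end CfsgLib.KGroups.ElevenOrders
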